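import Cfsg.Agent.R2.T1.T1p.Base
import Cfsg.Agent.R2.T1.Odd.Typ

/-!
# T1 (S5771, p = 2, n = 8): the ghost pattern `(32, 20, 16, 2, 8)` (helper24)

* `Y0 ψ` : the vectors fixed by `A_5 × A_3`; `dim_Y0_le` : `finrank (Y0 ψ) ≤ ev (7-cycle) 1`.
-/

set_option autoImplicit false
set_option maxRecDepth 100000

namespace Cfsg.Agent.R2.T1.T1x

open Cfsg Cfsg.Lie Module Equiv Equiv.Perm
open Cfsg.Agent.H943.E7V.Block (D1 rho)
open Cfsg.Agent.H952.F4 (ev es MaxAlt)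
open Cfsg.Agent.R2.T1 Cfsg.Agent.R2.T1.T1p

universe u

variable {F : Type u} [Field F]

/-- the 3-cycle (5 6 7) -/
def c3 : A8 := ⟨c[5, 6, 7], by rw [mem_alternatingGroup]; decide +kernel⟩

/-- the 7-cycle -/
def c7 : A8 := ⟨c[0, 1, 2, 3, 4, 5, 6], by rw [mem_alternatingGroup]; decide +kernel⟩

/-- an element with 5 ↦ 0, 6 ↦ 1, 7 ↦ 2 -/
def h0 : A8 := ⟨c[0, 5] * c[1, 6] * c[2, 7] * c[3, 4], by rw [mem_alternatingGroup]; decide +kernel⟩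

variable (ψ : A8 →* Gh F)

/-- the vectors fixed by `A_5 × A_3` -/
def Y0 : Submodule F (D1 → F) where
  carrier := {v | V F (ψ c3) v = v ∧ ∀ a : A8, (a : Perm (Fin 8)) 5 = 5 → (a : Perm (Fin 8)) 6 = 6 →
    (a : Perm (Fin 8)) 7 = 7 → V F (ψ a) v = v}
  add_mem' := by
    rintro v w ⟨hv0, hv⟩ ⟨hw0, hw⟩
    exact ⟨by rw [map_add, hv0, hw0], fun a h5 h6 h7 => by rw [map_add, hv a h5 h6 h7, hw a h5 h6 h7]⟩
  zero_mem' := ⟨map_zero _, fun a _ _ _ => map_zero _⟩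
  smul_mem' := by
    rintro c v ⟨hv0, hv⟩
    exact ⟨by rw [map_smul, hv0], fun a h5 h6 h7 => by rw [map_smul, hv a h5 h6 h7]⟩

variable {ψ}

open Classical in
/-- the translates -/
noncomputable def T (ψ : A8 →* Gh F) (v : D1 → F) (i j k : Fin 8) : D1 → F :=
  if h : i ≠ j ∧ j ≠ k ∧ i ≠ k then V F (ψ (exists3 h.1 h.2.1 h.2.2).choose) v else 0

theorem T_eq {v : D1 → F} (hv : v ∈ Y0 ψ) {a : A8} {i j k : Fin 8} (h5 : (a : Perm (Fin 8)) 5 = i)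
    (h6 : (a : Perm (Fin 8)) 6 = j) (h7 : (a : Perm (Fin 8)) 7 = k) : V F (ψ a) v = T ψ v i j k := by
  have hinj := (a : Perm (Fin 8)).injective
  have hd : i ≠ j ∧ j ≠ k ∧ i ≠ k := by
    refine ⟨?_, ?_, ?_⟩ <;> rintro rfl
    · exact absurd (hinj (h5.trans h6.symm)) (by decide)
    · exact absurd (hinj (h6.trans h7.symm)) (by decide)
    · exact absurd (hinj (h5.trans h7.symm)) (by decide)
  unfold T
  rw [dif_pos hd]
  obtain ⟨p5, p6, p7⟩ := (exists3 hd.1 hd.2.1 hd.2.2).choose_spec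
  set p := (exists3 hd.1 hd.2.1 hd.2.2).choose with hp
  have h1 : V F (ψ (p⁻¹ * a)) v = v := by
    apply hv.2
    · show ((p : Perm (Fin 8))⁻¹) ((a : Perm (Fin 8)) 5) = 5
      rw [Perm.inv_eq_iff_eq, p5]; exact h5
    · show ((p : Perm (Fin 8))⁻¹) ((a : Perm (Fin 8)) 6) = 6
      rw [Perm.inv_eq_iff_eq, p6]; exact h6
    · show ((p : Perm (Fin 8))⁻¹) ((a : Perm (Fin 8)) 7) = 7
      rw [Perm.inv_eq_iff_eq, p7]; exact h7
  conv_rhs => rw [← h1]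
  rw [← V_mul, ← map_mul, mul_inv_cancel_left]

theorem T_act {v : D1 → F} (hv : v ∈ Y0 ψ) (b : A8) {i j k : Fin 8} (h1 : i ≠ j) (h2 : j ≠ k) (h3 : i ≠ k) :
    V F (ψ b) (T ψ v i j k) = T ψ v ((b : Perm (Fin 8)) i) ((b : Perm (Fin 8)) j) ((b : Perm (Fin 8)) k) := by
  obtain ⟨p, p5, p6, p7⟩ := exists3 h1 h2 h3
  rw [← T_eq hv p5 p6 p7, ← V_mul, ← map_mul]
  apply T_eq hv
  · show (b : Perm (Fin 8)) ((p : Perm (Fin 8)) 5) = _
    rw [p5]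
  · show (b : Perm (Fin 8)) ((p : Perm (Fin 8)) 6) = _
    rw [p6]
  · show (b : Perm (Fin 8)) ((p : Perm (Fin 8)) 7) = _
    rw [p7]

theorem T_self {v : D1 → F} (hv : v ∈ Y0 ψ) : T ψ v 5 6 7 = v := by
  have h := T_eq hv (a := 1) (i := 5) (j := 6) (k := 7) rfl rfl rfl
  rw [← h, map_one, V_one]

theorem T_rot {v : D1 → F} (hv : v ∈ Y0 ψ) {i j k : Fin 8} (h1 : i ≠ j) (h2 : j ≠ k) (h3 : i ≠ k) :
    T ψ v i j k = T ψ v j k i := by
  obtain ⟨p, p5, p6, p7⟩ := exists3 h1 h2 h3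
  rw [← T_eq hv p5 p6 p7]
  have e : V F (ψ (p * c3)) v = V F (ψ p) v := by rw [map_mul, V_mul, hv.1]
  rw [← e]
  have c5 : (c3 : Perm (Fin 8)) 5 = 6 := by decide +kernel
  have c6 : (c3 : Perm (Fin 8)) 6 = 7 := by decide +kernel
  have c7' : (c3 : Perm (Fin 8)) 7 = 5 := by decide +kernel
  apply T_eq hv
  · show (p : Perm (Fin 8)) ((c3 : Perm (Fin 8)) 5) = _
    rw [c5, p6]
  · show (p : Perm (Fin 8)) ((c3 : Perm (Fin 8)) 6) = _
    rw [c6, p7]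
  · show (p : Perm (Fin 8)) ((c3 : Perm (Fin 8)) 7) = _
    rw [c7', p5]

/-- the sum over the cyclic group of order 7 -/
noncomputable def Z (ψ : A8 →* Gh F) : (D1 → F) →ₗ[F] (D1 → F) :=
  (∑ k ∈ Finset.range 7, (V F (ψ c7)) ^ k) ∘ₗ V F (ψ h0)

theorem Z_eq {v : D1 → F} (hv : v ∈ Y0 ψ) : Z ψ v = T ψ v 0 1 2 + T ψ v 1 2 3 + T ψ v 2 3 4 + T ψ v 3 4 5 + T ψ v 4 5 6 +
    T ψ v 5 6 0 + T ψ v 6 0 1 := by
  have e0 : V F (ψ h0) v = T ψ v 0 1 2 := T_eq hv (by decide +kernel) (by decide +kernel) (by decide +kernel)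
  have hs : ∀ {i j k i' j' k' : Fin 8}, (i ≠ j ∧ j ≠ k ∧ i ≠ k) → ((c7 : Perm (Fin 8)) i = i' ∧ (c7 : Perm (Fin 8)) j = j' ∧
      (c7 : Perm (Fin 8)) k = k') → V F (ψ c7) (T ψ v i j k) = T ψ v i' j' k' := by
    rintro i j k i' j' k' ⟨h1, h2, h3⟩ ⟨rfl, rfl, rfl⟩
    exact T_act hv c7 h1 h2 h3
  have e1 : V F (ψ c7) (T ψ v 0 1 2) = T ψ v 1 2 3 := hs (by decide) (by decide +kernel)
  have e2 : V F (ψ c7) (T ψ v 1 2 3) = T ψ v 2 3 4 := hs (by decide) (by decide +kernel)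
  have e3 : V F (ψ c7) (T ψ v 2 3 4) = T ψ v 3 4 5 := hs (by decide) (by decide +kernel)
  have e4 : V F (ψ c7) (T ψ v 3 4 5) = T ψ v 4 5 6 := hs (by decide) (by decide +kernel)
  have e5 : V F (ψ c7) (T ψ v 4 5 6) = T ψ v 5 6 0 := hs (by decide) (by decide +kernel)
  have e6 : V F (ψ c7) (T ψ v 5 6 0) = T ψ v 6 0 1 := hs (by decide) (by decide +kernel)
  unfold Z
  rw [LinearMap.comp_apply, e0, LinearMap.sum_apply]
  have hpow : ∀ k, ((V F (ψ c7)) ^ (k + 1)) (T ψ v 0 1 2) = V F (ψ c7) (((V F (ψ c7)) ^ k) (T ψ v 0 1 2)) := by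
    intro k
    rw [pow_succ', Module.End.mul_apply]
  simp only [Finset.sum_range_succ, Finset.sum_range_zero, zero_add, hpow, pow_zero, Module.End.one_apply, e1, e2, e3, e4, e5,
    e6]

theorem Z_fix (v : D1 → F) : V F (ψ c7) (Z ψ v) = Z ψ v := by
  have h7 : (V F (ψ c7)) ^ 7 = 1 := by
    rw [← map_pow, ← map_pow]
    have : c7 ^ 7 = 1 := by decide +kernel
    rw [this, map_one, map_one]
  unfold Z
  rw [LinearMap.comp_apply, ← Module.End.mul_apply]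
  congr 1
  rw [Finset.mul_sum]
  simp only [Finset.sum_range_succ, Finset.sum_range_zero, zero_add, ← pow_succ', pow_zero, h7]
  rw [add_comm]
  abel

/-- all translates of a vanishing sum vanish -/
theorem H_of {v : D1 → F} (hv : v ∈ Y0 ψ) (hz : Z ψ v = 0) (p : Perm (Fin 8)) (hp : sign p = 1) (i0 i1 i2 i3 i4 i5 i6 : Fin 8)
    (he : p 0 = i0 ∧ p 1 = i1 ∧ p 2 = i2 ∧ p 3 = i3 ∧ p 4 = i4 ∧ p 5 = i5 ∧ p 6 = i6) :
    T ψ v i0 i1 i2 + T ψ v i1 i2 i3 + T ψ v i2 i3 i4 + T ψ v i3 i4 i5 + T ψ v i4 i5 i6 + T ψ v i5 i6 i0 + T ψ v i6 i0 i1 = 0 := by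
  obtain ⟨rfl, rfl, rfl, rfl, rfl, rfl, rfl⟩ := he
  have h := congrArg (V F (ψ ⟨p, mem_alternatingGroup.2 hp⟩)) ((Z_eq hv).symm.trans hz)
  rw [map_zero] at h
  simp only [map_add] at h
  rw [T_act hv _ (by decide) (by decide) (by decide), T_act hv _ (by decide) (by decide) (by decide),
    T_act hv _ (by decide) (by decide) (by decide), T_act hv _ (by decide) (by decide) (by decide),
    T_act hv _ (by decide) (by decide) (by decide), T_act hv _ (by decide) (by decide) (by decide),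
    T_act hv _ (by decide) (by decide) (by decide)] at h
  exact h

/-- the certificate -/
theorem cert (h2 : (2 : F) = 0) (T : Fin 8 → Fin 8 → Fin 8 → F)
    (R : ∀ i j k : Fin 8, (i ≠ j ∧ j ≠ k ∧ i ≠ k) → T i j k = T j k i)
    (H : ∀ p : Perm (Fin 8), sign p = 1 → ∀ i0 i1 i2 i3 i4 i5 i6 : Fin 8, (p 0 = i0 ∧ p 1 = i1 ∧ p 2 = i2 ∧ p 3 = i3 ∧ p 4 = i4 ∧
      p 5 = i5 ∧ p 6 = i6) → T i0 i1 i2 + T i1 i2 i3 + T i2 i3 i4 + T i3 i4 i5 + T i4 i5 i6 + T i5 i6 i0 + T i6 i0 i1 = 0) :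
    T 5 6 7 = 0 := by
  have e1 := H (c[1, 4, 3, 5, 7, 2, 6]) (by decide +kernel) 0 4 6 5 3 7 1 (by decide +kernel)
  have e2 := H (c[0, 1, 7] * c[2, 4, 5, 3, 6]) (by decide +kernel) 1 7 4 6 5 3 2 (by decide +kernel)
  have e3 := H (c[1, 4, 3, 5, 7]) (by decide +kernel) 0 4 2 5 3 7 6 (by decide +kernel)
  have e4 := H (c[1, 5, 7, 3] * c[4, 6]) (by decide +kernel) 0 5 2 1 6 7 4 (by decide +kernel)
  have e5 := H (c[1, 5, 7, 4, 3]) (by decide +kernel) 0 5 2 1 3 7 6 (by decide +kernel)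
  have e6 := H (c[1, 4, 6] * c[3, 5, 7]) (by decide +kernel) 0 4 2 5 6 7 1 (by decide +kernel)
  have e7 := H (c[1, 5, 7, 3, 2, 6, 4]) (by decide +kernel) 0 5 6 2 1 7 4 (by decide +kernel)
  linear_combination e1 + e2 + e3 + e4 + e5 + e6 + e7
    - ((R 3 6 5 (by decide)).symm + R 5 3 7 (by decide) + (R 1 3 7 (by decide)).symm + (R 0 7 1 (by decide)).symm + R 1 0 4 (by decide) + R 7 4 6 (by decide) + (R 3 6 5 (by decide)).symm + (R 2 5 3 (by decide)).symm + (R 1 3 2 (by decide)).symm + R 2 1 7 (by decide) + R 4 2 5 (by decide) + R 5 3 7 (by decide) + (R 0 7 6 (by decide)).symm + R 6 0 4 (by decide) + (R 1 5 2 (by decide)).symm + R 2 1 6 (by decide) + (R 4 6 7 (by decide)).symm + (R 0 7 4 (by decide)).symm + R 4 0 5 (by decide) + (R 1 5 2 (by decide)).symm + R 2 1 3 (by decide) + (R 0 7 6 (by decide)).symm + R 6 0 5 (by decide) + R 4 2 5 (by decide) + (R 1 6 7 (by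 decide)).symm + (R 0 7 1 (by decide)).symm + R 1 0 4 (by decide) + (R 2 5 6 (by decide)).symm + (R 1 6 2 (by decide)).symm + R 2 1 7 (by decide) + (R 0 7 4 (by decide)).symm + R 4 0 5 (by decide))
    - (T 0 4 1 * 1 + T 0 4 2 * 1 + T 0 4 6 * 1 + T 0 5 2 * 1 + T 0 5 4 * 1 + T 0 5 6 * 1 + T 0 7 1 * 1 + T 0 7 4 * 1 + T 0 7 6 * 1 + T 1 3 2 * 1 + T 1 3 7 * 1 + T 1 5 2 * 1 + T 1 6 2 * 1 + T 1 6 7 * 1 + T 1 7 2 * 1 + T 1 7 4 * 1 + T 2 5 3 * 1 + T 2 5 4 * 1 + T 2 5 6 * 1 + T 3 6 5 * 1 + T 3 7 5 * 1 + T 3 7 6 * 1 + T 4 6 5 * 1 + T 4 6 7 * 1) * h2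

theorem zero_of (h2 : (2 : F) = 0) {v : D1 → F} (hv : v ∈ Y0 ψ) (hz : Z ψ v = 0) : v = 0 := by
  rw [← T_self hv]
  funext b
  refine cert h2 (fun i j k => T ψ v i j k b) (fun i j k h => by show T ψ v i j k b = T ψ v j k i b; rw [T_rot hv h.1 h.2.1 h.2.2])
    fun p hp i0 i1 i2 i3 i4 i5 i6 he => ?_
  have h := congrFun (H_of hv hz p hp i0 i1 i2 i3 i4 i5 i6 he) b
  exact h

theorem dim_Y0_le (h2 : (2 : F) = 0) : finrank F (Y0 ψ) ≤ ev (V F (ψ c7)) 1 := by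
  let f : ↥(Y0 ψ) →ₗ[F] ↥(es (V F (ψ c7)) 1) :=
    (Z ψ ∘ₗ (Y0 ψ).subtype).codRestrict _ fun v => by
      show Z ψ v ∈ Module.End.eigenspace _ _
      rw [Module.End.mem_eigenspace_iff, one_smul]
      exact Z_fix _
  have hf : Function.Injective f := by
    rw [← LinearMap.ker_eq_bot, eq_bot_iff]
    intro v hv
    have h1 := congrArg Subtype.val (LinearMap.mem_ker.1 hv)
    rw [Submodule.mem_bot]
    exact Subtype.ext (zero_of h2 v.2 h1)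
  exact LinearMap.finrank_le_finrank_of_injective hf

end Cfsg.Agent.R2.T1.T1x
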